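import Cfsg.Agent.Lib.MonomialMult.O73.Sylow3

/-!
The checks for the prime 3.
Written by a script.
-/

set_option autoImplicit false
set_option maxRecDepth 100000
set_option maxHeartbeats 0
set_option Elab.async false

namespace Cfsg.Agent.MonomialMult.O73

open Cfsg.Agent.Lib.PcMult

theorem tab3_0 : Orth.otabB opts (sylW3.getD 0 []) (sylP3.getD 0 id) = true := by decide +kernel

theorem tab3_1 : Orth.otabB opts (sylW3.getD 1 []) (sylP3.getD 1 id) = true := by decide +kernel

theorem tab3_2 : Orth.otabB opts (sylW3.getD 2 []) (sylP3.getD 2 id) = true := by decide +kernel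

theorem tab3_3 : Orth.otabB opts (sylW3.getD 3 []) (sylP3.getD 3 id) = true := by decide +kernel

theorem tab3_4 : Orth.otabB opts (sylW3.getD 4 []) (sylP3.getD 4 id) = true := by decide +kernel

theorem tab3_5 : Orth.otabB opts (sylW3.getD 5 []) (sylP3.getD 5 id) = true := by decide +kernel

theorem tab3_6 : Orth.otabB opts (sylW3.getD 6 []) (sylP3.getD 6 id) = true := by decide +kernel

theorem tab3_7 : Orth.otabB opts (sylW3.getD 7 []) (sylP3.getD 7 id) = true := by decide +kernel

theorem tab3_8 : Orth.otabB opts (sylW3.getD 8 []) (sylP3.getD 8 id) = true := by decide +kernel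

theorem tab3_9 : Orth.otabB opts (sylW3.getD 9 []) (sylP3.getD 9 id) = true := by decide +kernel

theorem tab3_10 : Orth.otabB opts (sylW3.getD 10 []) (sylP3.getD 10 id) = true := by decide +kernel

theorem tab3_11 : Orth.otabB opts (sylW3.getD 11 []) (sylP3.getD 11 id) = true := by decide +kernel

theorem tab3_12 : Orth.otabB opts (sylW3.getD 12 []) (sylP3.getD 12 id) = true := by decide +kernel

theorem tab3_13 : Orth.otabB opts (sylW3.getD 13 []) (sylP3.getD 13 id) = true := by decide +kernel

theorem tab3_14 : Orth.otabB opts (sylW3.getD 14 []) (sylP3.getD 14 id) = true := by decide +kernel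

theorem tab3_15 : Orth.otabB opts (sylW3.getD 15 []) (sylP3.getD 15 id) = true := by decide +kernel

theorem tab3 : ∀ k < sylW3.length, Orth.otabB opts (sylW3.getD k []) (sylP3.getD k id) = true := fun k hk => by
    have hk' : k < 16 := hk
    interval_cases k
    · exact tab3_0
    · exact tab3_1
    · exact tab3_2
    · exact tab3_3
    · exact tab3_4
    · exact tab3_5
    · exact tab3_6
    · exact tab3_7
    · exact tab3_8
    · exact tab3_9
    · exact tab3_10
    · exact tab3_11
    · exact tab3_12
    · exact tab3_13
    · exact tab3_14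
    · exact tab3_15

theorem real3 : realT cert3 sylP3 378 orbs3 = true := by decide +kernel

theorem check3 : checkMany cert3 (vecOps 9) 9 res3 mult3 tor3 3 = true := by decide +kernel

end Cfsg.Agent.MonomialMult.O73
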