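import Cfsg.Agent.Lib.MonomialMult.O73.Tables

/-!
Lifts preserve the labelled graph.
Written by a script.
-/

set_option autoImplicit false
set_option maxRecDepth 100000
set_option maxHeartbeats 0
set_option Elab.async false

namespace Cfsg.Agent.MonomialMult.O73

open Cfsg.Agent.Lib.PcMult

theorem lift0_0 : liftB 3 378 data.T data.w (data.P.getD 0 id) (data.f.getD 0 id) 0 189 = true := by decide +kernel

theorem lift0_1 : liftB 3 378 data.T data.w (data.P.getD 0 id) (data.f.getD 0 id) 189 189 = true := by decide +kernel

theorem lift0 : ∀ x < 378, edgeB 3 378 data.T data.w (data.P.getD 0 id) (data.f.getD 0 id) x = true :=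
  edges_of_chunks (s := 2) (c := 189) (by norm_num) (by norm_num) fun i hi => by
    interval_cases i
    · exact lift0_0
    · exact lift0_1

theorem lift1_0 : liftB 3 378 data.T data.w (data.P.getD 1 id) (data.f.getD 1 id) 0 189 = true := by decide +kernel

theorem lift1_1 : liftB 3 378 data.T data.w (data.P.getD 1 id) (data.f.getD 1 id) 189 189 = true := by decide +kernel

theorem lift1 : ∀ x < 378, edgeB 3 378 data.T data.w (data.P.getD 1 id) (data.f.getD 1 id) x = true :=
  edges_of_chunks (s := 2) (c := 189) (by norm_num) (by norm_num) fun i hi => by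
    interval_cases i
    · exact lift1_0
    · exact lift1_1

theorem lift2_0 : liftB 3 378 data.T data.w (data.P.getD 2 id) (data.f.getD 2 id) 0 189 = true := by decide +kernel

theorem lift2_1 : liftB 3 378 data.T data.w (data.P.getD 2 id) (data.f.getD 2 id) 189 189 = true := by decide +kernel

theorem lift2 : ∀ x < 378, edgeB 3 378 data.T data.w (data.P.getD 2 id) (data.f.getD 2 id) x = true :=
  edges_of_chunks (s := 2) (c := 189) (by norm_num) (by norm_num) fun i hi => by
    interval_cases i
    · exact lift2_0
    · exact lift2_1


end Cfsg.Agent.MonomialMult.O73
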