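import Cfsg.Agent.Lib.MonomialMult.O73.Points
import Cfsg.Agent.Lib.MonomialMult.O73.LiftA
import Cfsg.Agent.Lib.MonomialMult.O73.LiftB
import Cfsg.Agent.Lib.MonomialMult.O73.LiftC
import Cfsg.Agent.Lib.MonomialMult.O73.Check2
import Cfsg.Agent.Lib.MonomialMult.O73.Check3

/-!
The multiplier of the orthogonal group of dimension seven over the field with three elements.
Written by a script.
-/

set_option autoImplicit false
set_option maxRecDepth 100000
set_option maxHeartbeats 0
set_option Elab.async false

namespace Cfsg.Agent.MonomialMult.O73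

open Cfsg.Agent.Lib.PcMult

theorem no_four {Γ : Type} [Group Γ] [Finite Γ] {σ : Γ →* Orth.G7} (hσ : Cfsg.IsStemExtension σ) :
    ¬ 2 ^ 2 ∣ Nat.card σ.ker := by
  haveI := Fact.mk Nat.prime_two
  refine Orth.bound_at opts_ok data_ok gtab rfl tab2 real2 (m' := 4) (d := 2) (p := 2) (k := 2)
    (by norm_num) (by norm_num) Nat.prime_two check2 ?_ rfl rfl ?_ hσ
  · rw [Orth.card_G7, show (4585351680 : ℕ) = 2 ^ 9 * 8955765 by norm_num]
    exact factorization_split Nat.prime_two (by norm_num)
  · decide

theorem no_nine {Γ : Type} [Group Γ] [Finite Γ] {σ : Γ →* Orth.G7} (hσ : Cfsg.IsStemExtension σ) :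
    ¬ 3 ^ 2 ∣ Nat.card σ.ker := by
  haveI := Fact.mk Nat.prime_three
  refine Orth.bound_at opts_ok data_ok gtab rfl tab3 real3 (m' := 9) (d := 3) (p := 3) (k := 2)
    (by norm_num) (by norm_num) Nat.prime_three check3 ?_ rfl rfl ?_ hσ
  · rw [Orth.card_G7, show (4585351680 : ℕ) = 3 ^ 9 * 232960 by norm_num]
    exact factorization_split Nat.prime_three (by norm_num)
  · decide

universe u

theorem main {F : Type u} [Field F] [Fintype F] (hF : Fintype.card F = 3) :
    Cfsg.HasCyclicSchurMultiplier (Cfsg.POmega F (Cfsg.quadFormOdd 3 F)) 6 := by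
  have hb : ∀ {Γ : Type} [Group Γ] [Finite Γ] (σ : Γ →* Orth.G7), Cfsg.IsStemExtension σ → Nat.card σ.ker ∣ 6 :=
    fun σ hσ => Orth.card_ker_dvd (fun h => no_four h) (fun h => no_nine h) σ hσ
  refine Orth.main_of (Orth.assemble (Orth.triple_cover opts_ok data_ok gtab (fun k hk => ?_) ctab fun k hk => ?_) hb) hb hF
  · have hk' : k < 7 := hk
    interval_cases k
    · exact lift0
    · exact lift1
    · exact lift2
    · exact lift3
    · exact lift4
    · exact lift5
    · exact lift6
  · interval_cases k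
    · exact clift0
    · exact clift1

end Cfsg.Agent.MonomialMult.O73
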