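import Cfsg.Agent.Lib.MonomialMult.O73.Tables

/-!
The tables of the points and of the generators.
Written by a script.
-/

set_option autoImplicit false
set_option maxRecDepth 100000
set_option maxHeartbeats 0
set_option Elab.async false

namespace Cfsg.Agent.MonomialMult.O73

open Cfsg.Agent.Lib.PcMult

theorem opts_ok : Orth.optsB opts = true := by decide +kernel

theorem data_ok : Orth.dataB opts data = true := by decide +kernel

theorem gtab0 : Orth.otabB opts (Orth.genW opts data 0) (data.P.getD 0 id) = true := by decide +kernel

theorem gtab1 : Orth.otabB opts (Orth.genW opts data 1) (data.P.getD 1 id) = true := by decide +kernel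

theorem gtab2 : Orth.otabB opts (Orth.genW opts data 2) (data.P.getD 2 id) = true := by decide +kernel

theorem gtab3 : Orth.otabB opts (Orth.genW opts data 3) (data.P.getD 3 id) = true := by decide +kernel

theorem gtab4 : Orth.otabB opts (Orth.genW opts data 4) (data.P.getD 4 id) = true := by decide +kernel

theorem gtab5 : Orth.otabB opts (Orth.genW opts data 5) (data.P.getD 5 id) = true := by decide +kernel

theorem gtab6 : Orth.otabB opts (Orth.genW opts data 6) (data.P.getD 6 id) = true := by decide +kernel

theorem ctab0 : Orth.otabB opts (data.cw.getD 0 []) (data.cP.getD 0 id) = true := by decide +kernel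

theorem ctab1 : Orth.otabB opts (data.cw.getD 1 []) (data.cP.getD 1 id) = true := by decide +kernel

theorem gtab : ∀ k < data.s, Orth.otabB opts (Orth.genW opts data k) (data.P.getD k id) = true := fun k hk => by
    have hk' : k < 7 := hk
    interval_cases k
    · exact gtab0
    · exact gtab1
    · exact gtab2
    · exact gtab3
    · exact gtab4
    · exact gtab5
    · exact gtab6

theorem ctab : ∀ k < 2, Orth.otabB opts (data.cw.getD k []) (data.cP.getD k id) = true := fun k hk => by
    interval_cases k
    · exact ctab0
    · exact ctab1

end Cfsg.Agent.MonomialMult.O73
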